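set_option autoImplicit false
namespace Cfsg.Agent.Lib.Helper6.TCD.S82a
noncomputable def GT (i : Nat) : Nat := Nat.land (Nat.shiftRight 0x8610008530008140008040007f40007e40007d50007a50007850007650007560007380007250007160007050006f60006d50006c60006b70006880006850006660006570006360006270006150005f60005e70005e20005b80005980005960005860005770005730005660005570005530005360005260005170005130004f80004c80004c60004b80004b70004970004940004770004740004560004470004270004240003f80003f60003d80003c80003c70003c40003b70003b50003a70003a50003860003670003640003570003550003280003180003170002f80002f70002f50002e60002d60002c60002a70002970002950002860002680002480002470002450002380002360002320002310002170001f70001f50001e60001e10001c80001c70001b80001b60001b30001970001950001870001760001730001580001560001540001370001260001160001140001080001050000e70000d60000d40000c50000c00000b70000a6000095000092000086000075000073000065000054000044000041000033000022000010000008000000 (Nat.mul 24 (Nat.land i 1023))) 16777215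
end Cfsg.Agent.Lib.Helper6.TCD.S82a
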