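set_option autoImplicit false
namespace Cfsg.Agent.Lib.Helper6.TCD.S82a
noncomputable def HR (i : Nat) : Nat := Nat.land (Nat.shiftRight 0x161100015310001441000144100014410001341000135100013510001351000125100012610001351000125100012610001251000126100011510001161000117100012610001151000116100011710001161000117100010510001061000107100010210001161000117100010610001061000107100010310001061000107100010310000f610000f610000f710000f31000126100010710000f6100010410000f710000f710000f410000f710000f410000e610000e710000e710000e4100011710000e610000f710000f510000e710000e410000e710000e510000e710000e510000d610000d710000d410000d710000d51000107100010510000d710000e610000d710000d510000d610000d610000c610000c710000c710000c510000c6100011710000f610000c710000c510000d210000c610000c210000c110000b710000b710000b510000b610000b1100010610000b710000e310000b610000b310000a710000a510000a710000a610000a310000f410000a610000a41000097100009610000961000094100010510000951000087100008610000841000085100008010000771000076100007510000721000066100006510000631000055100005410000441000041100003310000221000010100000010000000 (Nat.mul 28 (Nat.land i 1023))) 268435455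
end Cfsg.Agent.Lib.Helper6.TCD.S82a
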