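set_option autoImplicit false
namespace Cfsg.Agent.Lib.Helper6.TCD.S82a
noncomputable def NC (i : Nat) : Nat := Nat.land (Nat.shiftRight 0x400218000000000000000300085000000000000000100020400000000000000040008000000000000000010001fc00000000000000040007e00000000000000014001f400000000000000050007a00000000000000014001e000000000000000050007600000000000000018001d400000000000000080007300000000000000014001c800000000000000060007100000000000000014001c000000000000000060006f00000000000000014001b400000000000000060006c0000000000000001c001ac00000000000000080006800000000000000014001a00000000000000006000660000000000000001c001940000000000000006000630000000000000001c00188000000000000000500061000000000000000180017c00000000000000070005e000000000000000080017800000000000000080005b000000000000000200016400000000000000060005900000000000000018001600000000000000007000570000000000000000c0015c0000000000000006000560000000000000001c00154000000000000000300055000000000000000180014c0000000000000006000520000000000000001c00144000000000000000300051000000000000000200013c00000000000000080004c000000000000000180013000000000000000080004b0000000000000001c0012c0000000000000007000490000000000000001000124000000000000000700047000000000000000100011c0000000000000006000450000000000000001c00110000000000000000700042000000000000000100010800000000000000080003f00000000000000018000fc00000000000000080003d00000000000000020000f000000000000000070003c00000000000000010000f000000000000000070003b00000000000000014000ec00000000000000070003a00000000000000014000e80000000000000006000380000000000000001c000d800000000000000040003600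00000000000001c000d400000000000000050003500000000000000020000c80000000000000008000310000000000000001c000c400000000000000080002f0000000000000001c000bc00000000000000050002f00000000000000018000b800000000000000060002d00000000000000018000b000000000000000070002a0000000000000001c000a400000000000000050002900000000000000018000a000000000000000080002600000000000000020000900000000000000007000240000000000000001400090000000000000000800023000000000000000180008c000000000000000200023000000000000000040008c0000000000000007000210000000000000001c0007c00000000000000050001f000000000000000180007800000000000000010001e000000000000000200007000000000000000070001c000000000000000200006c00000000000000060001b0000000000000000c0006c0000000000000007000190000000000000001400064000000000000000700018000000000000000180005c0000000000000003000170000000000000002000054000000000000000600015000000000000000100005400000000000000070001300000000000000018000480000000000000006000110000000000000001000044000000000000000800010000000000000000140004000000000000000070000e000000000000000180003400000000000000040000d000000000000000140003000000000000000000000c0000000000000001c0002c00000000000000060000a000000000000000140002400000000000000020000900000000000000018000200000000000000005000070000000000000000c0001c0000000000000005000060000000000000001000014000000000000000400004000000000000000040001000000000000000030000300000000000000008000080000000000000000000010000000000000002000000000000000000000000000 (Nat.mul 86 (Nat.land i 511))) 77371252455336267181195263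
end Cfsg.Agent.Lib.Helper6.TCD.S82a
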