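set_option autoImplicit false
namespace Cfsg.Agent.Lib.Helper6.TCD.S82a
noncomputable def P0 (i : Nat) : Nat := Nat.land (Nat.shiftRight 0x87868584828381807e7f7d7c7b7a7776797875746e72716d6c73706f6b6a6961676665605f5e686463625d5c545a53585752515b59565550464e4d45444a4943424f4c4b48474140383e37363b35393f3d3c3a34332b2a30292e282c32312f2d2720251f1e22212624231d18171a191c1b1611141312150c0f0e0d100b0a09080706050403010200 (Nat.mul 8 (Nat.land i 255))) 255
end Cfsg.Agent.Lib.Helper6.TCD.S82a
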