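set_option autoImplicit false
namespace Cfsg.Agent.Lib.Helper6.TCD.S82a
noncomputable def P1 (i : Nat) : Nat := Nat.land (Nat.shiftRight 0x86878584838281807f7e7d7b7c7a73786e767572797471686f77616c6b6766706a69655b59626d54535e5d586457635c5a4c4b605f4544504f4a4956554e4d3d3c465251373641403f3b48473e2f3938434229343332312e3a30232c2b2a351e272625242d2221201f281d1c1b1a19181716150f13121110140b0d0c0e08090a0607040503020100 (Nat.mul 8 (Nat.land i 255))) 255
end Cfsg.Agent.Lib.Helper6.TCD.S82a
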