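set_option autoImplicit false
namespace Cfsg.Agent.Lib.Helper6.TCD.S82a
noncomputable def P2 (i : Nat) : Nat := Nat.land (Nat.shiftRight 0x8786828483857e807f817679737a7c78777d6c707b6871746f6e6d755e6463725b59656a696261605f6b5d566755664c4b5c5a54535251504f484758573d3c4e4d394544434241403f3a4a492f3e462c373635343332312d3b23303822212928272625242e2b2a1a191e1d1c1b201f131216151418170d100f0e11090b0a0c080706050402030100 (Nat.mul 8 (Nat.land i 255))) 255
end Cfsg.Agent.Lib.Helper6.TCD.S82a
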