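set_option autoImplicit false
namespace Cfsg.Agent.Lib.Helper6.TCD.S82a
noncomputable def P3 (i : Nat) : Nat := Nat.land (Nat.shiftRight 0x878586848382817b79777d7c80727f707e6d7574737a6678636e765f6b5d6968677157646f5561606c516a504f5a59586556624653525e5c5b41403f4b4a49484754384443424e4d4c3332313b3a39452b2a35343e3d3c25242e2d2c37361f282726302f1b22212029171d1c231419181e16151a0e1211100f130a0c0b0d07080906050304020100 (Nat.mul 8 (Nat.land i 255))) 255
end Cfsg.Agent.Lib.Helper6.TCD.S82a
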