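set_option autoImplicit false
namespace Cfsg.Agent.Lib.Helper6.TCD.S82a
noncomputable def P5 (i : Nat) : Nat := Nat.land (Nat.shiftRight 0x8786858483827d7a787681747280707f6d7e757c687b71796f61776c6b6a69736766656463626e605f5e5d4e5b5a594a57485554534351414f5c3e3d4b583b563a46374452355033324d4c2f4947392b45294234403f24303c2e2d22381f362827262531232c19202a1e161c1b1a2118171d101413120c150f0e09110b070d060a08050403020100 (Nat.mul 8 (Nat.land i 255))) 255
end Cfsg.Agent.Lib.Helper6.TCD.S82a
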