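set_option autoImplicit false
namespace Cfsg.Agent.Lib.Helper6.TCD.S82a
noncomputable def P6 (i : Nat) : Nat := Nat.land (Nat.shiftRight 0x87868584838281807f7e757c7b71796f776c7d6973667a63786e5f766b5c745958726556706253526d5e506a4c5a6867576455456160515d3f4e4d5b4b4a494847385444434241404f303d3c2e2d2c46373628342532313e233b3a392b2a1e351d26331b2f22212017292715241a12111f161c140d1918100f0a130c080e090b0706050403020100 (Nat.mul 8 (Nat.land i 255))) 255
end Cfsg.Agent.Lib.Helper6.TCD.S82a
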