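set_option autoImplicit false
namespace Cfsg.Agent.Lib.Helper6.TCD.S82a
noncomputable def P7 (i : Nat) : Nat := Nat.land (Nat.shiftRight 0x87868584838281807f7e7d7c7b7a797877766b7473726570626e6d5e756a5a6867577164556f6160516c5d4d5b694b496647635444425f404f3e5c3c593b583a5646365335523350314e2f4c4a48392a2945432741243f303d2e2d211f383728341c253223192c182b1e1d261b1322201716150e1a1211100b140d0c0f0a09080706050403020100 (Nat.mul 8 (Nat.land i 255))) 255
end Cfsg.Agent.Lib.Helper6.TCD.S82a
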