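set_option autoImplicit false
namespace Cfsg.Agent.Lib.Helper6.TCD.S82a
noncomputable def P8 (i : Nat) : Nat := Nat.land (Nat.shiftRight 0x878685838482817f807e7d7379787b7a777675687c706f72716e6d6c6b5b597464636267666561605f5e4f4c6a4b6956555857545352513f5d3d3c5c5a48474a4946454443423231502f4e4d3a3b393837363526244140233e2d2e2c2b2a29281c341b33302221201f1e1527251a191817101d14131211160f0e0d0c0b0a09080706050403020001 (Nat.mul 8 (Nat.land i 255))) 255
end Cfsg.Agent.Lib.Helper6.TCD.S82a
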