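set_option autoImplicit false
namespace Cfsg.Agent.Lib.Helper6.TCD.S82a
noncomputable def Q45 (i : Nat) : Nat := Nat.land (Nat.shiftRight 0x6b875e65866251578555424b834944818447353c827f3b367d5a803a28312f7e79782e2a29754d7b7a2d7c24772376706f1f1e403e727174211c1b6d6c6463181773333067666a691915605f56116e682725585d5c13121052480c615b591d4a500e4e0d4354534f4c16410a0946453f3d34070b3837320539082b262c062022041a031402010f00 (Nat.mul 8 (Nat.land i 255))) 255
end Cfsg.Agent.Lib.Helper6.TCD.S82a
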