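set_option autoImplicit false
namespace Cfsg.Agent.Lib.Helper6.TCD.S82a
noncomputable def WI (i : Nat) : Nat := Nat.land (Nat.shiftRight 0x4f8ba7a5d3c2e9d974e8ba725d382e9b974d8ba6a5d342e99974c8ba625d302e97974b8ba5a5d2c2e95974a8ba525d282e9397498ba4a5d242e9197488ba425d202e8f97478ba3a5d1c2e8d97468ba325d182e8b97458ba2a5d142e8997448ba225d102e8797438ba1a5d0c2e8597428ba125d082e8397418ba0a5d042e8197408ba025d002e1f170f4b8785c3b2e1d170e4b8705c372e1b170d4b8685c332e19170c4b8605c2f2e17170b4b8585c2b2e15170a4b8505c272e1317094b8485c232e1117084b8405c1f2e0f17074b8385c1b2e0d17064b8305c172e0b17054b8285c132e0917044b8205c0f2e0717034b8185c0b2e0517024b8105c072e0317014b8085c032e0117004b8005d072d8316c14b6085b032d8116c04b6005a072d0316814b4085a032d0116804b4005a012c0016004ac0056012a0015004a40052012800140049c004e0126001300494004a012400120048c004601220011004840042012000100047c003e011e000f00474003a011c000e0046c0036011a000d0046400320118000c0045c002e0116000b00454002a0114000a0044c002601120009004440022011000080043c001e010e000700434001a010c00060042c0016010a00050042400120008000380018000a000400018000800020000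 (Nat.mul 17 (Nat.land i 255))) 131071
end Cfsg.Agent.Lib.Helper6.TCD.S82a
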