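set_option autoImplicit false
namespace Cfsg.Agent.Lib.Helper6.TCD.S82a
noncomputable def P4 (i : Nat) : Nat := Nat.land (Nat.shiftRight 0x878681807f7e858483827d7c7b7a79787776756a736771646f6e606c6b745c5b725865705662546d525e5d69684d4c6649634761455f42504f4e5a593c4a574855465336435134403f3e3d4b3b3a393837443541272631302f2e2d2c202a292833321d1c231a212b181e25241522131f11161b14190d17100f0e120c0b0a09080504070603020100 (Nat.mul 8 (Nat.land i 255))) 255
end Cfsg.Agent.Lib.Helper6.TCD.S82a
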